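import Mathlib.LinearAlgebra.QuadraticForm.Basic
import Mathlib.LinearAlgebra.QuadraticForm.Basis
import Mathlib.LinearAlgebra.Dimension.Finrank
import Mathlib.LinearAlgebra.FiniteDimensional.Lemmas
import Mathlib.FieldTheory.ChevalleyWarning
import Mathlib.FieldTheory.Finite.Basic
import Mathlib.Tactic.LinearCombination
import Mathlib.Tactic.Abel

/-! The number of zeros of a nondegenerate quadratic form over a finite field. -/

set_option autoImplicit false
set_option linter.style.haveILetI false

universe u v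

noncomputable section

namespace Groth.L05.Quadric

variable {k : Type u} [Field k] {V : Type v} [AddCommGroup V] [Module k V]

/-- No nonzero vector of the radical is a zero. -/
def Nondeg (Q : QuadraticForm k V) : Prop :=
  ∀ v : V, (∀ w, QuadraticMap.polarBilin Q v w = 0) → Q v = 0 → v = 0

/-- There is a totally isotropic subspace of half the dimension. -/
def Split (Q : QuadraticForm k V) : Prop :=
  ∃ W : Submodule k V, 2 * Module.finrank k W = Module.finrank k V ∧ ∀ w ∈ W, Q w = 0

theorem apply_add (Q : QuadraticForm k V) (x y : V) :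
    Q (x + y) = Q x + Q y + QuadraticMap.polarBilin Q x y := by
  rw [QuadraticMap.polarBilin_apply_apply]
  exact QuadraticMap.map_add Q x y

theorem polarBilin_comm (Q : QuadraticForm k V) (x y : V) :
    QuadraticMap.polarBilin Q x y = QuadraticMap.polarBilin Q y x := by
  simp only [QuadraticMap.polarBilin_apply_apply]
  exact QuadraticMap.polar_comm Q x y

theorem polarBilin_self (Q : QuadraticForm k V) (x : V) :
    QuadraticMap.polarBilin Q x x = Q x + Q x := by
  rw [QuadraticMap.polarBilin_apply_apply, QuadraticMap.polar_self, two_smul]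

variable [Finite k] [Module.Finite k V]

/-- In three or more variables there is a nonzero zero. -/
theorem exists_isotropic (Q : QuadraticForm k V) (h : 3 ≤ Module.finrank k V) :
    ∃ v : V, v ≠ 0 ∧ Q v = 0 := by
  classical
  haveI := Fintype.ofFinite k
  let b := Module.finBasis k V
  let B := LinearMap.BilinMap.toQuadraticMap (QuadraticMap.toBilin Q b)
  let f : MvPolynomial (Fin (Module.finrank k V)) k :=
    ∑ i, ∑ j, MvPolynomial.C (QuadraticMap.toBilin Q b (b i) (b j)) * (MvPolynomial.X i * MvPolynomial.X j)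
  have hf : ∀ x, MvPolynomial.eval x f = Q (∑ i, x i • b i) := by
    intro x
    conv_rhs => rw [← QuadraticMap.toQuadraticMap_toBilin Q b, LinearMap.BilinMap.toQuadraticMap_apply]
    simp only [map_sum, map_smul, LinearMap.smul_apply, smul_eq_mul, LinearMap.sum_apply, f, map_mul,
      MvPolynomial.eval_C, MvPolynomial.eval_X, Finset.mul_sum]
    rw [Finset.sum_comm]
    exact Finset.sum_congr rfl fun i _ => Finset.sum_congr rfl fun j _ => by ring
  have hdeg : f.totalDegree < Fintype.card (Fin (Module.finrank k V)) := by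
    refine lt_of_le_of_lt ?_ (show 2 < _ by rw [Fintype.card_fin]; omega)
    refine (MvPolynomial.totalDegree_finsetSum _ _).trans (Finset.sup_le fun i _ => ?_)
    refine (MvPolynomial.totalDegree_finsetSum _ _).trans (Finset.sup_le fun j _ => ?_)
    exact (MvPolynomial.totalDegree_mul _ _).trans (by
      rw [MvPolynomial.totalDegree_C, zero_add]
      exact (MvPolynomial.totalDegree_mul _ _).trans (by simp))
  obtain ⟨p, hp⟩ := CharP.exists k
  haveI := hp
  haveI : Fact p.Prime := ⟨CharP.char_is_prime k p⟩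
  have hdvd := char_dvd_card_solutions p hdeg
  have h0 : MvPolynomial.eval 0 f = 0 := by rw [hf]; simp
  have h1 : 1 < Fintype.card {x : Fin (Module.finrank k V) → k // MvPolynomial.eval x f = 0} := by
    have hpos : 0 < Fintype.card {x : Fin (Module.finrank k V) → k // MvPolynomial.eval x f = 0} :=
      Fintype.card_pos_iff.2 ⟨⟨0, h0⟩⟩
    exact lt_of_lt_of_le (Fact.out : p.Prime).one_lt (Nat.le_of_dvd hpos hdvd)
  obtain ⟨⟨x, hx⟩, hne⟩ := Fintype.exists_ne_of_one_lt_card h1 ⟨0, h0⟩
  refine ⟨∑ i, x i • b i, fun hs => hne (Subtype.ext (funext ?_)), (hf x).symm.trans hx⟩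
  exact Fintype.linearIndependent_iff.1 b.linearIndependent x hs

omit [Finite k] in
/-- A hyperbolic plane through an isotropic vector. -/
theorem exists_hyperbolic {Q : QuadraticForm k V} (hQ : Nondeg Q) {v : V} (hv : v ≠ 0) (hv0 : Q v = 0) :
    ∃ u : V, Q u = 0 ∧ QuadraticMap.polarBilin Q v u = 1 := by
  obtain ⟨w, hw⟩ : ∃ w, QuadraticMap.polarBilin Q v w ≠ 0 := by
    by_contra hall
    push Not at hall
    exact hv (hQ v hall hv0)
  obtain ⟨u₀, h1⟩ : ∃ u₀, QuadraticMap.polarBilin Q v u₀ = 1 :=
    ⟨(QuadraticMap.polarBilin Q v w)⁻¹ • w, by rw [map_smul, smul_eq_mul, inv_mul_cancel₀ hw]⟩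
  refine ⟨u₀ + (-Q u₀) • v, ?_, ?_⟩
  · rw [apply_add, QuadraticMap.map_smul Q (-Q u₀) v, hv0, map_smul, polarBilin_comm Q u₀ v, h1]
    simp
  · rw [map_add, h1, map_smul, polarBilin_self, hv0]
    simp

/-- The orthogonal of a hyperbolic pair. -/
def perp (Q : QuadraticForm k V) (v u : V) : Submodule k V :=
  LinearMap.ker (QuadraticMap.polarBilin Q v) ⊓ LinearMap.ker (QuadraticMap.polarBilin Q u)

/-- The projection to the orthogonal. -/
def proj (Q : QuadraticForm k V) (v u x : V) : V :=
  x - QuadraticMap.polarBilin Q u x • v - QuadraticMap.polarBilin Q v x • u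

section Split

variable {Q : QuadraticForm k V} {v u : V} (hv : Q v = 0) (hu : Q u = 0)
  (hvu : QuadraticMap.polarBilin Q v u = 1)

omit [Finite k] [Module.Finite k V]

include hv hu hvu

theorem proj_mem (x : V) : proj Q v u x ∈ perp Q v u := by
  refine ⟨?_, ?_⟩
  · show QuadraticMap.polarBilin Q v (proj Q v u x) = 0
    simp [proj, polarBilin_self, hv, hvu, -QuadraticMap.polarBilin_apply_apply]
  · show QuadraticMap.polarBilin Q u (proj Q v u x) = 0
    simp [proj, polarBilin_self, hu, polarBilin_comm Q u v, hvu, -QuadraticMap.polarBilin_apply_apply]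

theorem apply_split (w : V) (hw : w ∈ perp Q v u) (a c : k) : Q (w + a • v + c • u) = Q w + a * c := by
  have h1 : QuadraticMap.polarBilin Q v w = 0 := hw.1
  have h2 : QuadraticMap.polarBilin Q u w = 0 := hw.2
  rw [apply_add, apply_add, QuadraticMap.map_smul, QuadraticMap.map_smul, hv, hu]
  simp [map_add, map_smul, polarBilin_comm Q w v, polarBilin_comm Q w u, h1, h2, hvu,
    -QuadraticMap.polarBilin_apply_apply, mul_comm]

/-- `V` is the orthogonal plus the hyperbolic plane. -/
def splitEquiv : (perp Q v u × k × k) ≃ₗ[k] V where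
  toFun p := p.1.1 + p.2.1 • v + p.2.2 • u
  map_add' p q := by
    simp only [Prod.fst_add, Prod.snd_add, Submodule.coe_add, add_smul]
    abel
  map_smul' c p := by
    simp only [Prod.smul_fst, Prod.smul_snd, SetLike.val_smul, smul_eq_mul, mul_smul, RingHom.id_apply, smul_add]
  invFun x := (⟨proj Q v u x, proj_mem hv hu hvu x⟩, QuadraticMap.polarBilin Q u x, QuadraticMap.polarBilin Q v x)
  left_inv p := by
    obtain ⟨⟨w, hw⟩, a, c⟩ := p
    have h1 : QuadraticMap.polarBilin Q v w = 0 := hw.1
    have h2 : QuadraticMap.polarBilin Q u w = 0 := hw.2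
    have e1 : QuadraticMap.polarBilin Q v (w + a • v + c • u) = c := by
      simp [map_add, map_smul, h1, polarBilin_self, hv, hvu, -QuadraticMap.polarBilin_apply_apply]
    have e2 : QuadraticMap.polarBilin Q u (w + a • v + c • u) = a := by
      simp [map_add, map_smul, h2, polarBilin_self, hu, polarBilin_comm Q u v, hvu,
        -QuadraticMap.polarBilin_apply_apply]
    refine Prod.ext (Subtype.ext ?_) (Prod.ext e2 e1)
    show proj Q v u (w + a • v + c • u) = w
    rw [proj, e1, e2]
    abel
  right_inv x := by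
    show proj Q v u x + _ + _ = x
    rw [proj]
    abel

theorem finrank_perp [Module.Finite k V] : Module.finrank k (perp Q v u) + 2 = Module.finrank k V := by
  rw [← (splitEquiv hv hu hvu).finrank_eq, Module.finrank_prod, Module.finrank_prod, Module.finrank_self]

theorem nondeg_perp (hQ : Nondeg Q) : Nondeg (Q.comp (perp Q v u).subtype) := by
  intro w h1 h2
  refine Subtype.ext (hQ w.1 (fun x => ?_) h2)
  have hx : x = proj Q v u x + QuadraticMap.polarBilin Q u x • v + QuadraticMap.polarBilin Q v x • u := by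
    rw [proj]; abel
  rw [hx, map_add, map_add, map_smul, map_smul, polarBilin_comm Q w.1 v, polarBilin_comm Q w.1 u,
    show QuadraticMap.polarBilin Q v w.1 = 0 from w.2.1, show QuadraticMap.polarBilin Q u w.1 = 0 from w.2.2]
  have := h1 ⟨_, proj_mem hv hu hvu x⟩
  simp only [QuadraticMap.polarBilin_apply_apply, QuadraticMap.polar, QuadraticMap.comp_apply,
    Submodule.subtype_apply, Submodule.coe_add] at this ⊢
  simp [this]

theorem split_of_split (h : Split (Q.comp (perp Q v u).subtype)) [Module.Finite k V] : Split Q := by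
  obtain ⟨W', hdim, hW'⟩ := h
  let e := splitEquiv hv hu hvu
  let ι : (W' × k) →ₗ[k] V := e.toLinearMap.comp (LinearMap.prodMap W'.subtype (LinearMap.inl k k k))
  have hι : Function.Injective ι := by
    intro p q h
    have h' := e.injective h
    exact Prod.ext (Subtype.ext (Prod.ext_iff.1 h').1) (Prod.ext_iff.1 (Prod.ext_iff.1 h').2).1
  refine ⟨LinearMap.range ι, ?_, ?_⟩
  · rw [LinearMap.finrank_range_of_inj hι, Module.finrank_prod, Module.finrank_self, ← finrank_perp hv hu hvu]
    omega
  · rintro _ ⟨⟨w, a⟩, rfl⟩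
    show Q (w.1.1 + a • v + (0 : k) • u) = 0
    rw [apply_split hv hu hvu _ w.1.2, mul_zero, add_zero]
    exact hW' w.1 w.2

theorem split_perp [Module.Finite k V] {W : Submodule k V} (hdim : 2 * Module.finrank k W = Module.finrank k V)
    (hW : ∀ w ∈ W, Q w = 0) (hvW : v ∈ W) : Split (Q.comp (perp Q v u).subtype) := by
  have hperp : ∀ x ∈ W, QuadraticMap.polarBilin Q v x = 0 := fun x hx => by
    have h := hW _ (W.add_mem hvW hx)
    rw [apply_add, hv, hW x hx, zero_add, zero_add] at h
    exact h
  let π : W →ₗ[k] perp Q v u := (LinearMap.fst k _ _).comp ((splitEquiv hv hu hvu).symm.toLinearMap.comp W.subtype)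
  have hker : Module.finrank k (LinearMap.ker π) ≤ 1 := by
    let φ : LinearMap.ker π →ₗ[k] k := (QuadraticMap.polarBilin Q u).comp (W.subtype.comp (LinearMap.ker π).subtype)
    have hφ : Function.Injective φ := by
      rw [← LinearMap.ker_eq_bot, LinearMap.ker_eq_bot']
      rintro ⟨⟨x, hx⟩, hxk⟩ h0
      have h0' : QuadraticMap.polarBilin Q u x = 0 := h0
      have h1 : proj Q v u x = 0 := congrArg Subtype.val (LinearMap.mem_ker.1 hxk)
      rw [proj, h0', hperp x hx, zero_smul, zero_smul, sub_zero, sub_zero] at h1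
      exact Subtype.ext (Subtype.ext h1)
    exact (LinearMap.finrank_le_finrank_of_injective hφ).trans_eq (Module.finrank_self k)
  have hrn := π.finrank_range_add_finrank_ker
  have hp := finrank_perp hv hu hvu
  have hle : Module.finrank k (LinearMap.range π) ≤ Module.finrank k (perp Q v u) := Submodule.finrank_le _
  obtain ⟨W', hW'le, hW'⟩ : ∃ W' ≤ LinearMap.range π, 2 * Module.finrank k W' = Module.finrank k (perp Q v u) := by
    have hm : Module.finrank k W - 1 ≤ Module.finrank k (LinearMap.range π) := by omega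
    obtain ⟨f, hf⟩ := exists_linearIndependent_of_le_finrank (R := k) (M := LinearMap.range π) hm
    let ι := (LinearMap.range π).subtype
    have hf' : LinearIndependent k (ι ∘ f) := hf.map' ι (Submodule.ker_subtype _)
    refine ⟨Submodule.span k (Set.range (ι ∘ f)), Submodule.span_le.2 ?_, ?_⟩
    · rintro _ ⟨i, rfl⟩
      exact (f i).2
    · rw [finrank_span_eq_card hf', Fintype.card_fin]
      omega
  refine ⟨W', hW', fun w hw => ?_⟩
  obtain ⟨⟨x, hx⟩, rfl⟩ := hW'le hw
  show Q (proj Q v u x) = 0
  rw [proj, hperp x hx, zero_smul, sub_zero]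
  exact hW _ (W.sub_mem hx (W.smul_mem _ hvW))

/-- The zeros of `Q` and of its restriction to the orthogonal. -/
theorem card_zeros [Finite k] [Module.Finite k V] :
    (Nat.card {x : V // Q x = 0} : ℤ) =
      Nat.card k * Nat.card {w : perp Q v u // Q w.1 = 0} + (Nat.card k - 1) * Nat.card (perp Q v u) := by
  classical
  haveI := Fintype.ofFinite k
  haveI : Finite V := Module.finite_of_finite k
  haveI := Fintype.ofFinite V
  haveI := Fintype.ofFinite (perp Q v u)
  have h1 : Nat.card {x : V // Q x = 0} = Nat.card {p : perp Q v u × k × k // Q p.1.1 + p.2.1 * p.2.2 = 0} := by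
    refine Nat.card_congr (((splitEquiv hv hu hvu).toEquiv.subtypeEquiv fun p => ?_).symm)
    show _ ↔ Q (p.1.1 + p.2.1 • v + p.2.2 • u) = 0
    rw [apply_split hv hu hvu _ p.1.2]
  let e : {p : perp Q v u × k × k // Q p.1.1 + p.2.1 * p.2.2 = 0} ≃
      Σ w : perp Q v u, {z : k × k // Q w.1 + z.1 * z.2 = 0} :=
    { toFun := fun p => ⟨p.1.1, p.1.2, p.2⟩
      invFun := fun p => ⟨(p.1, p.2.1), p.2.2⟩
      left_inv := fun _ => rfl
      right_inv := fun _ => rfl }
  have hcount : ∀ w : perp Q v u, (Fintype.card {z : k × k // Q w.1 + z.1 * z.2 = 0} : ℤ) =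
      (Fintype.card k - 1) + if Q w.1 = 0 then (Fintype.card k : ℤ) else 0 := by
    intro w
    let e' : {z : k × k // Q w.1 + z.1 * z.2 = 0} ≃ Σ a : k, {c : k // Q w.1 + a * c = 0} :=
      { toFun := fun p => ⟨p.1.1, p.1.2, p.2⟩
        invFun := fun p => ⟨(p.1, p.2.1), p.2.2⟩
        left_inv := fun _ => rfl
        right_inv := fun _ => rfl }
    rw [Fintype.card_congr e', Fintype.card_sigma, Nat.cast_sum,
      ← Finset.add_sum_erase _ _ (Finset.mem_univ (0 : k))]
    have ha : ∀ a ∈ (Finset.univ : Finset k).erase 0, (Fintype.card {c : k // Q w.1 + a * c = 0} : ℤ) = 1 := by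
      intro a ha
      have ha := (Finset.mem_erase.1 ha).1
      rw [Nat.cast_eq_one]
      refine Fintype.card_eq_one_iff.2 ⟨⟨-(Q w.1) / a, by field_simp [ha]; ring⟩, fun c => Subtype.ext ?_⟩
      show c.1 = -(Q w.1) / a
      rw [eq_div_iff ha]
      linear_combination c.2
    rw [Finset.sum_congr rfl ha, Finset.sum_const, nsmul_one, Finset.card_erase_of_mem (Finset.mem_univ (0 : k))]
    simp only [zero_mul, add_zero, Finset.card_univ]
    rw [Nat.cast_sub Fintype.card_pos, Nat.cast_one]
    split_ifs with h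
    · rw [Fintype.card_congr (Equiv.subtypeUnivEquiv fun _ => h)]; ring
    · rw [Fintype.card_eq_zero_iff.2 ⟨fun c => h c.2⟩]; simp
  rw [h1, Nat.card_congr e, Nat.card_eq_fintype_card, Fintype.card_sigma, Nat.cast_sum,
    Finset.sum_congr rfl fun w _ => hcount w, Finset.sum_add_distrib, Finset.sum_const, Finset.card_univ, nsmul_eq_mul,
    ← Finset.sum_filter, Finset.sum_const, nsmul_eq_mul]
  simp only [Nat.card_eq_fintype_card, Fintype.card_subtype]
  ring

end Split

/-- The number of zeros of a nondegenerate quadratic form. -/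
theorem card_zeros_formula {Q : QuadraticForm k V} (hQ : Nondeg Q) :
    (Odd (Module.finrank k V) →
      (Nat.card k : ℤ) * Nat.card {x : V // Q x = 0} = (Nat.card k : ℤ) ^ Module.finrank k V) ∧
    ∀ m, Module.finrank k V = 2 * m →
      (Split Q → (Nat.card k : ℤ) * Nat.card {x : V // Q x = 0} =
        (Nat.card k : ℤ) ^ (2 * m) + ((Nat.card k : ℤ) - 1) * (Nat.card k : ℤ) ^ m) ∧
      (¬ Split Q → (Nat.card k : ℤ) * Nat.card {x : V // Q x = 0} =
        (Nat.card k : ℤ) ^ (2 * m) - ((Nat.card k : ℤ) - 1) * (Nat.card k : ℤ) ^ m) := by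
  induction hN : Module.finrank k V using Nat.strong_induction_on generalizing V with
  | _ N ih =>
    subst hN
    have step : ∀ {v : V}, v ≠ 0 → Q v = 0 → ∃ u, Q u = 0 ∧ QuadraticMap.polarBilin Q v u = 1 ∧
        (Odd (Module.finrank k V) →
          (Nat.card k : ℤ) * Nat.card {x : V // Q x = 0} = (Nat.card k : ℤ) ^ Module.finrank k V) ∧
        ∀ m, Module.finrank k V = 2 * (m + 1) →
          (Split (Q.comp (perp Q v u).subtype) → (Nat.card k : ℤ) * Nat.card {x : V // Q x = 0} =
            (Nat.card k : ℤ) ^ (2 * (m + 1)) + ((Nat.card k : ℤ) - 1) * (Nat.card k : ℤ) ^ (m + 1)) ∧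
          (¬ Split (Q.comp (perp Q v u).subtype) → (Nat.card k : ℤ) * Nat.card {x : V // Q x = 0} =
            (Nat.card k : ℤ) ^ (2 * (m + 1)) - ((Nat.card k : ℤ) - 1) * (Nat.card k : ℤ) ^ (m + 1)) := by
      intro v hv hv0
      obtain ⟨u, hu, hvu⟩ := exists_hyperbolic hQ hv hv0
      have hd := finrank_perp hv0 hu hvu
      have h' := ih _ (by omega) (nondeg_perp hv0 hu hvu hQ) rfl
      have hc := card_zeros hv0 hu hvu
      rw [Module.natCard_eq_pow_finrank (K := k) (V := perp Q v u), Nat.cast_pow] at hc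
      refine ⟨u, hu, hvu, fun hodd => ?_, fun m hm => ⟨fun hs => ?_, fun hs => ?_⟩⟩
      · have hodd' : Odd (Module.finrank k (perp Q v u)) := by
          rw [← hd] at hodd
          exact Nat.not_even_iff_odd.1 fun he => Nat.not_even_iff_odd.2 hodd (he.add even_two)
        have h := h'.1 hodd'
        simp only [QuadraticMap.comp_apply, Submodule.subtype_apply] at h
        rw [← hd, hc, pow_add]
        linear_combination (Nat.card k : ℤ) * h
      · have h := (h'.2 m (by omega)).1 hs
        simp only [QuadraticMap.comp_apply, Submodule.subtype_apply] at h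
        rw [hc, show Module.finrank k (perp Q v u) = 2 * m by omega]
        linear_combination (Nat.card k : ℤ) * h
      · have h := (h'.2 m (by omega)).2 hs
        simp only [QuadraticMap.comp_apply, Submodule.subtype_apply] at h
        rw [hc, show Module.finrank k (perp Q v u) = 2 * m by omega]
        linear_combination (Nat.card k : ℤ) * h
    by_cases hiso : ∃ v : V, v ≠ 0 ∧ Q v = 0
    · obtain ⟨v, hv, hv0⟩ := hiso
      obtain ⟨u, hu, hvu, hodd, heven⟩ := step hv hv0
      refine ⟨hodd, fun m hm => ?_⟩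
      obtain ⟨m, rfl⟩ : ∃ m', m = m' + 1 := ⟨m - 1, by
        haveI : Nontrivial V := nontrivial_of_ne v 0 hv
        have := Module.finrank_pos (R := k) (M := V)
        omega⟩
      refine ⟨fun hs => ?_, fun hs => (heven m hm).2 fun hs' => hs (split_of_split hv0 hu hvu hs')⟩
      obtain ⟨W, hW, hW0⟩ := hs
      obtain ⟨w, hwW, hw⟩ : ∃ w ∈ W, w ≠ 0 := (Submodule.ne_bot_iff W).1 fun hbot => by
        rw [hbot, finrank_bot] at hW
        omega
      obtain ⟨u', hu', hwu', -, heven'⟩ := step hw (hW0 w hwW)
      exact (heven' m hm).1 (split_perp (hW0 w hwW) hu' hwu' hW hW0 hwW)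
    · push Not at hiso
      have hle : Module.finrank k V ≤ 2 := by
        by_contra hlt
        obtain ⟨v, hv, hv0⟩ := exists_isotropic Q (by omega)
        exact hiso v hv hv0
      have hone : Nat.card {x : V // Q x = 0} = 1 :=
        Nat.card_eq_one_iff_exists.2 ⟨⟨0, QuadraticMap.map_zero Q⟩, fun x =>
          Subtype.ext (by_contra fun hne => hiso x.1 hne x.2)⟩
      rw [hone, Nat.cast_one, mul_one]
      refine ⟨fun ho => ?_, fun m hm => ?_⟩
      · obtain ⟨c, hc⟩ := ho
        rw [show Module.finrank k V = 1 by omega, pow_one]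
      · obtain rfl | rfl : m = 0 ∨ m = 1 := by omega
        · refine ⟨fun _ => by ring, fun hs => (hs ⟨⊥, by rw [finrank_bot, hm], fun w hw => ?_⟩).elim⟩
          rw [(Submodule.mem_bot k).1 hw, QuadraticMap.map_zero]
        · refine ⟨fun ⟨W, hW, hW0⟩ => ?_, fun _ => by ring⟩
          obtain ⟨w, hwW, hw⟩ : ∃ w ∈ W, w ≠ 0 := (Submodule.ne_bot_iff W).1 fun hbot => by
            rw [hbot, finrank_bot] at hW
            omega
          exact absurd (hW0 w hwW) (hiso w hw)

end Groth.L05.Quadric
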