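import Groth.Agent.L05.Quadric.Count
import Groth.Agent.L11.Zeta.Counts
import Groth.Agent.L04.CohDimVan.CompleteInt
import Groth.Agent.L21.PlaneCurve.SmoothHyp
import Groth.Agent.L22.Adjunction.SmoothClosed
import Groth.Agent.L18.CIProjChart
import Mathlib.LinearAlgebra.Projectivization.Cardinality

/-! Rational points of a smooth quadric. -/

set_option autoImplicit false
set_option linter.style.haveILetI false
set_option backward.isDefEq.respectTransparency false
set_option backward.isDefEq.respectTransparency.types false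

universe u

open CategoryTheory CategoryTheory.Limits AlgebraicGeometry MvPolynomial

noncomputable section

namespace Groth.L05.Quadric

variable {k : Type u} [Field k] {r : ℕ}

/-- A degree two form is a combination of the products of two variables. -/
theorem exists_coeffs (Q : LefPen.Form r k 2) :
    ∃ c : Fin (r + 1) → Fin (r + 1) → k, Q.1 = ∑ a, ∑ b, C (c a b) * (X a * X b) := by
  classical
  have hQ : Q.1.IsHomogeneous 2 := (mem_homogeneousSubmodule 2 _).1 Q.2
  suffices H : ∀ s : Finset (Fin (r + 1) →₀ ℕ), (∀ μ ∈ s, μ.degree = 2) →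
      ∃ c : Fin (r + 1) → Fin (r + 1) → k, ∑ μ ∈ s, monomial μ (coeff μ Q.1) = ∑ a, ∑ b, C (c a b) * (X a * X b) by
    obtain ⟨c, hc⟩ := H Q.1.support fun μ hμ => by
      by_contra h
      exact mem_support_iff.1 hμ (hQ.coeff_eq_zero h)
    exact ⟨c, Q.1.as_sum.trans hc⟩
  intro s hs
  induction s using Finset.induction_on with
  | empty => exact ⟨0, by simp⟩
  | @insert μ s hμs ih =>
    obtain ⟨c, hc⟩ := ih fun ν hν => hs ν (Finset.mem_insert_of_mem hν)
    have hμ := hs μ (Finset.mem_insert_self μ s)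
    obtain ⟨a, ha⟩ : ∃ a, μ a ≠ 0 := by
      by_contra hall
      push Not at hall
      rw [show μ = 0 from Finsupp.ext hall, map_zero] at hμ
      omega
    have hμ' : μ = Finsupp.single a 1 + (μ - Finsupp.single a 1) := (add_tsub_cancel_of_le
      (Finsupp.single_le_iff.2 (Nat.one_le_iff_ne_zero.2 ha))).symm
    have hd : (μ - Finsupp.single a 1).degree = 1 := by
      have h := congrArg Finsupp.degree hμ'
      rw [map_add, Finsupp.degree_single, hμ] at h
      omega
    obtain ⟨b, hb⟩ := (Finsupp.sum_eq_one_iff _).1 (by rw [← hd, Finsupp.degree_apply]; rfl)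
    refine ⟨fun a' b' => c a' b' + if a' = a ∧ b' = b then coeff μ Q.1 else 0, ?_⟩
    rw [Finset.sum_insert hμs, hc]
    simp only [map_add, add_mul, Finset.sum_add_distrib]
    rw [add_comm (monomial μ (coeff μ Q.1)), add_right_inj]
    simp only [apply_ite C, map_zero, ite_mul, zero_mul, ite_and, Finset.sum_ite_eq', Finset.mem_univ, if_true,
      Finset.sum_ite_irrel, Finset.sum_const_zero]
    rw [X, X, monomial_mul, C_mul_monomial, ← hb]
    simp [← hμ']

/-- The quadratic form of a degree two form, with its partial derivatives. -/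
theorem exists_quadraticForm (Q : LefPen.Form r k 2) :
    ∃ F : QuadraticForm k (Fin (r + 1) → k), (∀ v, F v = eval v Q.1) ∧
      ∀ (v : Fin (r + 1) → k) (j : Fin (r + 1)),
        eval v (pderiv j Q.1) = QuadraticMap.polarBilin F v (Pi.single j 1) := by
  classical
  obtain ⟨c, hc⟩ := exists_coeffs Q
  let B : LinearMap.BilinMap k (Fin (r + 1) → k) k :=
    LinearMap.mk₂ k (fun v w => ∑ a, ∑ b, c a b * (v a * w b))
      (fun v v' w => by simp only [Pi.add_apply, add_mul, mul_add, Finset.sum_add_distrib])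
      (fun t v w => by
        simp only [Pi.smul_apply, smul_eq_mul, Finset.mul_sum]
        exact Finset.sum_congr rfl fun _ _ => Finset.sum_congr rfl fun _ _ => by ring)
      (fun v w w' => by simp only [Pi.add_apply, mul_add, Finset.sum_add_distrib])
      (fun t v w => by
        simp only [Pi.smul_apply, smul_eq_mul, Finset.mul_sum]
        exact Finset.sum_congr rfl fun _ _ => Finset.sum_congr rfl fun _ _ => by ring)
  have hF : ∀ v, B.toQuadraticMap v = eval v Q.1 := fun v => by
    rw [LinearMap.BilinMap.toQuadraticMap_apply, hc]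
    simp [B]
  refine ⟨B.toQuadraticMap, hF, fun v j => ?_⟩
  rw [QuadraticMap.polarBilin_apply_apply, LinearMap.BilinMap.polar_toQuadraticMap, hc]
  simp only [B, LinearMap.mk₂_apply, map_sum, pderiv_C, pderiv_mul, pderiv_X, Pi.single_apply, map_mul,
    map_add, eval_C, eval_X, map_smul, smul_eq_mul, apply_ite (eval v), map_one, map_zero, mul_ite, ite_mul,
    mul_one, mul_zero, one_mul, zero_mul, smul_eval, mul_add, Finset.sum_add_distrib, Finset.sum_ite_eq,
    Finset.sum_ite_eq', Finset.mem_univ, if_true, Finset.sum_ite_irrel, Finset.sum_const_zero]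
  ring

theorem eval_smul (Q : LefPen.Form r k 2) (t : k) (v : Fin (r + 1) → k) :
    eval (t • v) Q.1 = t ^ 2 * eval v Q.1 := by
  obtain ⟨F, hF, -⟩ := exists_quadraticForm Q
  rw [← hF, ← hF, QuadraticMap.map_smul, smul_eq_mul, sq]

theorem eval_dehom (i : Fin (r + 1)) (z : Groth.L16.ProjSpace.ChartVar r i → k)
    (p : MvPolynomial (Fin (r + 1)) k) :
    eval z (Groth.L16.ProjSpace.dehom r k i p) = eval (fun j => if h : j = i then 1 else z ⟨j, h⟩) p := by
  have e : ((eval z).comp (Groth.L16.ProjSpace.dehom r k i).toRingHom) =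
      eval (fun j => if h : j = i then 1 else z ⟨j, h⟩) := by
    refine MvPolynomial.ringHom_ext (fun a => by simp) (fun j => ?_)
    by_cases h : j = i <;> simp [Groth.L16.ProjSpace.dehom, h]
  exact congr($e p)

theorem pderiv_dehom (i : Fin (r + 1)) (j : Groth.L16.ProjSpace.ChartVar r i)
    (p : MvPolynomial (Fin (r + 1)) k) :
    pderiv j (Groth.L16.ProjSpace.dehom r k i p) = Groth.L16.ProjSpace.dehom r k i (pderiv j.1 p) := by
  classical
  induction p using MvPolynomial.induction_on with
  | C t => simp [Groth.L16.ProjSpace.dehom]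
  | add p q hp hq => simp only [map_add, hp, hq]
  | mul_X p l hp =>
    simp only [map_mul, pderiv_mul, hp, map_add]
    congr 2
    by_cases h : l = i
    · subst h
      rw [Groth.L16.ProjSpace.dehom_X_self, pderiv_one, pderiv_X, Pi.single_eq_of_ne (Ne.symm j.2), map_zero]
    · rw [Groth.L16.ProjSpace.dehom_X_ne r k i ⟨l, h⟩, pderiv_X, pderiv_X]
      by_cases hjl : l = j.1
      · subst hjl; simp
      · rw [Pi.single_eq_of_ne hjl, Pi.single_eq_of_ne fun e => hjl (congrArg Subtype.val e), map_zero]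

theorem dehom_ne_zero {d : ℕ} {p : MvPolynomial (Fin (r + 1)) k} (hp : p.IsHomogeneous d) (hp0 : p ≠ 0)
    (i : Fin (r + 1)) : Groth.L16.ProjSpace.dehom r k i p ≠ 0 := by
  intro h
  have h1 := Groth.L16.ProjSpace.toAway_dehom_mul r k i ((mem_homogeneousSubmodule d _).2 hp)
  rw [h, map_zero, HomogeneousLocalization.val_zero, zero_mul] at h1
  exact hp0 (IsLocalization.injective (Localization.Away (X i : MvPolynomial (Fin (r + 1)) k))
    (powers_le_nonZeroDivisors_of_noZeroDivisors (X_ne_zero i)) (h1.symm.trans (map_zero _).symm))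

/-- A smooth quadric of dimension `n` in projective `(n + 1)`-space is not the whole space. -/
theorem form_ne_zero {n : ℕ} (Q : LefPen.Form (n + 1) k 2)
    [SmoothOfRelativeDimension n ((LefPen.hypIdeal Q).subschemeι ≫ CohB1.ProjSpace.toSpec (n + 1) k)] : Q ≠ 0 := by
  intro h0
  haveI : IsIntegral (CohB1.ProjSpace (n + 1) k) := Groth.L16.ProjSpace.isIntegral (n := n + 1) (R := k)
  set I := LefPen.hypIdeal Q
  haveI : Surjective I.subschemeι := ⟨fun x => by
    show x ∈ Set.range I.subschemeι
    rw [Scheme.IdealSheafData.range_subschemeι, SetLike.mem_coe, Groth.L04.CompleteInt.mem_support_hypIdeal, h0]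
    simp⟩
  haveI : IsIso I.subschemeι := isIso_of_isClosedImmersion_of_surjective _
  have h1 := Groth.L22.Adjunction.topologicalKrullDim_le_relDim (I.subschemeι ≫ CohB1.ProjSpace.toSpec (n + 1) k) n
  rw [(Scheme.Hom.homeomorph I.subschemeι).isHomeomorph.topologicalKrullDim_eq,
    Groth.L16.ProjSpace.topologicalKrullDim_eq_of_field (n + 1) k] at h1
  exact absurd (by exact_mod_cast h1 : n + 1 ≤ n) (by omega)

/-- Smoothness makes the quadratic form nondegenerate. -/
theorem nondeg_of_smooth {n : ℕ} (Q : LefPen.Form (n + 1) k 2)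
    [SmoothOfRelativeDimension n ((LefPen.hypIdeal Q).subschemeι ≫ CohB1.ProjSpace.toSpec (n + 1) k)]
    {F : QuadraticForm k (Fin (n + 1 + 1) → k)} (hF : ∀ v, F v = eval v Q.1)
    (hF' : ∀ (v : Fin (n + 1 + 1) → k) (j : Fin (n + 1 + 1)),
      eval v (pderiv j Q.1) = QuadraticMap.polarBilin F v (Pi.single j 1)) : Nondeg F := by
  intro v hrad hv0
  by_contra hv
  obtain ⟨i, hi⟩ := Function.ne_iff.1 hv
  haveI : Smooth ((LefPen.hypIdeal Q).subschemeι ≫ CohB1.ProjSpace.toSpec (n + 1) k) :=
    SmoothOfRelativeDimension.smooth n _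
  have hsm := (Groth.L21.PlaneCurve.smooth_hyp_iff Q).1 inferInstance i
  set g := Groth.L16.ProjSpace.dehom (n + 1) k i Q.1
  have hg : g ≠ 0 := dehom_ne_zero ((mem_homogeneousSubmodule 2 _).1 Q.2)
    (fun h => form_ne_zero Q (Subtype.ext h)) i
  let z : Groth.L16.ProjSpace.ChartVar (n + 1) i → k := fun j => (v i)⁻¹ * v j.1
  have hz : (fun j => if h : j = i then 1 else z ⟨j, h⟩) = (v i)⁻¹ • v := funext fun j => by
    by_cases h : j = i
    · subst h; simp [inv_mul_cancel₀ hi]
    · simp [h, z]
  let q : Ideal (MvPolynomial (Groth.L16.ProjSpace.ChartVar (n + 1) i) k) := RingHom.ker (eval z)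
  haveI hq : q.IsPrime := RingHom.ker_isPrime (eval z)
  obtain ⟨j, hj⟩ := (Groth.L21.Jacobian.smooth_quot_iff (Ideal.Quotient.mkₐ k _) Ideal.Quotient.mk_surjective g hg
    (Ideal.Quotient.mkₐ_ker k _)).1 hsm q hq (by
      show eval z g = 0
      rw [eval_dehom, hz, eval_smul, ← hF v, hv0, mul_zero])
  refine hj ?_
  show eval z (pderiv j g) = 0
  rw [pderiv_dehom, eval_dehom, hz, hF', map_smul, LinearMap.smul_apply, hrad, smul_zero]

/-- The rational points of a hypersurface. -/
theorem pointCount_hyp [Finite k] {d : ℕ} (hd : 1 ≤ d) (Q : LefPen.Form r k d)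
    (hsmul : ∀ (t : k) (v : Fin (r + 1) → k), eval (t • v) Q.1 = t ^ d * eval v Q.1) :
    SgaExt.pointCount ((LefPen.hypIdeal Q).subschemeι ≫ CohB1.ProjSpace.toSpec r k) k * (Nat.card k - 1) + 1 =
      Nat.card {v : Fin (r + 1) → k // eval v Q.1 = 0} := by
  classical
  haveI := Groth.L11.ZetaCounts.spec_field_subsingleton k
  let x₀ : ↥(Spec (CommRingCat.of k)) := (⊥ : PrimeSpectrum k)
  set ι := (LefPen.hypIdeal Q).subschemeι
  let V := {v : Fin (r + 1) → k // v ≠ 0 ∧ eval v Q.1 = 0}
  let T := {g : Spec (CommRingCat.of k) ⟶ (LefPen.hypIdeal Q).subscheme //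
    g ≫ ι ≫ CohB1.ProjSpace.toSpec r k = Spec.map (CommRingCat.ofHom (algebraMap k k))}
  have hidx : ∀ v : V, ∃ i, IsUnit (v.1 i) := fun v => by
    obtain ⟨i, hi⟩ := Function.ne_iff.1 v.2.1
    exact ⟨i, Ne.isUnit hi⟩
  choose idx hidx using hidx
  have hmem : ∀ (v : Fin (r + 1) → k) (i : Fin (r + 1)) (hi : IsUnit (v i)),
      (Groth.L18.PS.tuplePt (B := CommRingCat.of k) (algebraMap k k) v i hi) x₀ ∈ (LefPen.hypIdeal Q).support ↔
        eval v Q.1 = 0 := by
    intro v i hi
    rw [Groth.L04.CompleteInt.mem_support_hypIdeal]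
    have h := Groth.L18.PS.tuplePt_preimage_basicOpen (B := CommRingCat.of k) (algebraMap k k) v i hi Q.1
      ((mem_homogeneousSubmodule d _).1 Q.2) hd
    refine (not_congr (SetLike.ext_iff.1 h x₀)).trans ?_
    show ¬ ¬ (eval₂Hom (algebraMap k k) v Q.1 ∈ (⊥ : Ideal k)) ↔ _
    rw [not_not, Ideal.mem_bot]
    rfl
  have hlift : ∀ v : V, ∃ g : T, g.1 ≫ ι =
      Groth.L18.PS.tuplePt (B := CommRingCat.of k) (algebraMap k k) v.1 (idx v) (hidx v) := by
    intro v
    set f := Groth.L18.PS.tuplePt (B := CommRingCat.of k) (algebraMap k k) v.1 (idx v) (hidx v)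
    haveI : IsReduced (Spec (CommRingCat.of k)) := inferInstance
    haveI : Surjective (pullback.snd ι f) := ⟨fun x => by
      have hx : f x ∈ Set.range ι := by
        rw [Scheme.IdealSheafData.range_subschemeι, SetLike.mem_coe, Subsingleton.elim x x₀]
        exact (hmem _ _ _).2 v.2.2
      have h := Scheme.Pullback.range_snd ι f
      show x ∈ Set.range (pullback.snd ι f)
      rw [h]
      exact hx⟩
    haveI : IsIso (pullback.snd ι f) := isIso_of_isClosedImmersion_of_surjective _
    refine ⟨⟨inv (pullback.snd ι f) ≫ pullback.fst ι f, ?_⟩, ?_⟩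
    · rw [Category.assoc, pullback.condition_assoc, IsIso.inv_hom_id_assoc]
      exact Groth.L18.PS.tuplePt_toSpec (B := CommRingCat.of k) _ _ _ _
    · rw [Category.assoc, pullback.condition, IsIso.inv_hom_id_assoc]
  choose pt hpt using hlift
  have hsurj : ∀ g : T, ∃ v : V, pt v = g := by
    intro g
    have hp : (g.1 ≫ ι) x₀ ∈ ⨆ i : Fin (r + 1), Proj.basicOpen (CohB1.polyGrading r k) (X i) :=
      (Groth.L18.PS.iSup_chart (n := r) (R := k)).symm ▸ trivial
    obtain ⟨i, hi⟩ := TopologicalSpace.Opens.mem_iSup.1 hp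
    obtain ⟨τ, b, hb, hgb, hb1⟩ := Groth.L18.PS.exists_tuplePt (B := CommRingCat.of k) (g.1 ≫ ι) i
      (fun x => by rwa [Subsingleton.elim x x₀])
    have hτ : τ = algebraMap k k := by
      have h := g.2
      rw [← Category.assoc, hgb, Groth.L18.PS.tuplePt_toSpec] at h
      exact congrArg CommRingCat.Hom.hom (Spec.map_injective h)
    subst hτ
    have hb0 : (show Fin (r + 1) → k from b) ≠ 0 := fun h => by
      have h0 : b i = 0 := congrFun h i
      exact one_ne_zero (α := k) (hb1.symm.trans h0)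
    have hQb : eval (show Fin (r + 1) → k from b) Q.1 = 0 := by
      refine (hmem _ i hb).1 ?_
      show Groth.L18.PS.tuplePt (B := CommRingCat.of k) (algebraMap k k) b i hb x₀ ∈
        ((LefPen.hypIdeal Q).support : Set (CohB1.ProjSpace r k))
      rw [← hgb, ← Scheme.IdealSheafData.range_subschemeι]
      exact ⟨g.1 x₀, rfl⟩
    refine ⟨⟨b, hb0, hQb⟩, Subtype.ext ((cancel_mono ι).1 ((hpt _).trans ?_))⟩
    rw [hgb]
    exact Groth.L18.PS.tuplePt_chart_eq (B := CommRingCat.of k) _ _ _ _ _ hb
  have hfib : ∀ (v : V) (c : kˣ), (c : k) • v.1 ≠ 0 ∧ eval ((c : k) • v.1) Q.1 = 0 := fun v c =>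
    ⟨smul_ne_zero c.ne_zero v.2.1, by rw [hsmul, v.2.2, mul_zero]⟩
  choose sec hsec using hsurj
  have hbij : Function.Bijective fun p : T × kˣ => (⟨_, hfib (sec p.1) p.2⟩ : V) := by
    constructor
    · rintro ⟨g, c⟩ ⟨g', c'⟩ h
      have h' : (c : k) • (sec g).1 = (c' : k) • (sec g').1 := congrArg Subtype.val h
      have hw : (sec g').1 = ((c' : k)⁻¹ * (c : k)) • (sec g).1 := by
        rw [mul_smul, h', inv_smul_smul₀ c'.ne_zero]
      have e : g = g' := by
        rw [← hsec g, ← hsec g']
        refine Subtype.ext ((cancel_mono ι).1 ?_)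
        rw [hpt, hpt]
        have hu : IsUnit (((c' : k)⁻¹ * (c : k)) * (sec g).1 (idx (sec g'))) := by
          have := hidx (sec g')
          rwa [hw] at this
        exact ((Groth.L18.PS.tuplePt_smul (B := CommRingCat.of k) (algebraMap k k) (sec g).1
          ((c' : k)⁻¹ * (c : k)) (idx (sec g')) (idx (sec g)) hu (hidx (sec g))).symm.trans
            (Groth.L18.PS.tuplePt_congr (B := CommRingCat.of k) _ (fun l => (congrFun hw l).symm) _ _ hu
              (hidx (sec g'))))
      subst e
      exact Prod.ext rfl (Units.ext (smul_left_injective k (sec g).2.1 h'))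
    · intro w
      obtain ⟨c, hc⟩ := Groth.L18.PS.exists_smul_of_tuplePt_eq (B := CommRingCat.of k) (algebraMap k k)
        (sec (pt w)).1 (idx (sec (pt w))) (idx w) (hidx (sec (pt w))) (hidx w) (by rw [← hpt, ← hpt, hsec])
      exact ⟨(pt w, c), Subtype.ext (funext fun l => (hc l).symm)⟩
  have hV : Nat.card V = SgaExt.pointCount (ι ≫ CohB1.ProjSpace.toSpec r k) k * (Nat.card k - 1) := by
    rw [← Nat.card_congr (Equiv.ofBijective _ hbij), Nat.card_prod, Nat.card_units]
    rfl
  rw [← hV]
  have h0 : eval (0 : Fin (r + 1) → k) Q.1 = 0 := by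
    have := hsmul 0 0
    rwa [zero_smul, zero_pow (by omega), zero_mul] at this
  let e : Option V ≃ {v : Fin (r + 1) → k // eval v Q.1 = 0} :=
    { toFun := fun o => o.elim ⟨0, h0⟩ fun v => ⟨v.1, v.2.2⟩
      invFun := fun v => if h : v.1 = 0 then none else some ⟨v.1, h, v.2⟩
      left_inv := fun o => by
        cases o with
        | none => simp
        | some v => simp [v.2.1]
      right_inv := fun v => by
        by_cases h : v.1 = 0
        · simp [h]; exact Subtype.ext h.symm
        · simp [h] }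
  rw [← Nat.card_congr e, Finite.card_option]

end Groth.L05.Quadric
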